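import Mathlib.RingTheory.Flat.Equalizer
import Mathlib.RingTheory.Flat.Localization
import Mathlib.RingTheory.LocalRing.ResidueField.Ideal
import Mathlib.RingTheory.Flat.FaithfullyFlat.Basic
import Mathlib.RingTheory.LocalRing.Module
import Mathlib.RingTheory.LocalRing.ResidueField.Basic
import Mathlib.Algebra.Module.FinitePresentation
import Mathlib.RingTheory.Localization.BaseChange

/-!
# Maps of finitely presented modules with flat target: bijectivity from a base change
-/

set_option autoImplicit false
set_option linter.style.haveILetI false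

universe u

open TensorProduct IsLocalRing

attribute [local instance] Algebra.TensorProduct.rightAlgebra

namespace Groth.Agent.IsoLocus96

/-- A finite module killed by a local base change is zero. -/
theorem subsingleton_of_tensor {A C : Type u} [CommRing A] [IsLocalRing A] [CommRing C] [IsLocalRing C]
    [Algebra A C] [IsLocalHom (algebraMap A C)] (Q : Type u) [AddCommGroup Q] [Module A Q] [Module.Finite A Q]
    (h : Subsingleton (C ⊗[A] Q)) : Subsingleton Q := by
  let kA := ResidueField A
  let kC := ResidueField C
  letI : Algebra kA kC := (ResidueField.map (algebraMap A C)).toAlgebra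
  haveI : IsScalarTower A kA kC := IsScalarTower.of_algebraMap_eq fun a => rfl
  haveI h1 : Subsingleton (kC ⊗[A] Q) :=
    (AlgebraTensorModule.cancelBaseChange A C C kC Q).symm.toEquiv.subsingleton
  haveI h2 : Subsingleton (kC ⊗[kA] (kA ⊗[A] Q)) :=
    (AlgebraTensorModule.cancelBaseChange A kA kA kC Q).toEquiv.subsingleton
  haveI : Subsingleton (kA ⊗[A] Q) := (Module.FaithfullyFlat.subsingleton_tensorProduct_iff_right kA kC).mp h2
  exact (IsLocalRing.subsingleton_tensorProduct (R := A) (M := Q)).mp ‹_›

/-- Injectivity of a base change along an algebra flat over a tensor product, for a flat quotient. -/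
theorem lTensor_injective {R A C R' : Type u} [CommRing R] [CommRing A] [Algebra R A] [CommRing C]
    [CommRing R'] [Algebra R R'] [Algebra A C] [Algebra (R' ⊗[R] A) C] [IsScalarTower A (R' ⊗[R] A) C]
    [Module.Flat (R' ⊗[R] A) C]
    {K M N : Type u} [AddCommGroup K] [Module A K] [Module R K] [IsScalarTower R A K]
    [AddCommGroup M] [Module A M] [Module R M] [IsScalarTower R A M]
    [AddCommGroup N] [Module A N] [Module R N] [IsScalarTower R A N] [Module.Flat R N]
    (g : K →ₗ[A] M) (hg : Function.Injective g) (v : M →ₗ[A] N) (hv : Function.Surjective v)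
    (hex : Function.Exact g v) : Function.Injective (g.baseChange C) := by
  let B₁ := R' ⊗[R] A
  haveI : Algebra.IsPushout R R' A B₁ := inferInstance
  have h1 : Function.Injective (g.baseChange B₁) := by
    have h0 : Function.Injective ((g.restrictScalars R).lTensor R') :=
      LinearMap.lTensor_injective_of_exact_of_flat (v.restrictScalars R) hv (g.restrictScalars R) hg hex R'
    let eK := Algebra.IsPushout.cancelBaseChange R R' A B₁ K
    let eM := Algebra.IsPushout.cancelBaseChange R R' A B₁ M
    have hc : ∀ z, (g.baseChange B₁) (eK.symm z) = eM.symm ((g.restrictScalars R).lTensor R' z) := fun z => by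
      induction z using TensorProduct.induction_on with
      | zero => simp
      | tmul r k => simp [eK, eM, Algebra.IsPushout.cancelBaseChange_symm_tmul]
      | add a b ha hb => simp only [map_add, ha, hb]
    intro a b hab
    obtain ⟨a, rfl⟩ := eK.symm.surjective a
    obtain ⟨b, rfl⟩ := eK.symm.surjective b
    rw [hc, hc] at hab
    rw [h0 (eM.symm.injective hab)]
  have h2 : Function.Injective ((g.baseChange B₁).lTensor C) :=
    Module.Flat.lTensor_preserves_injective_linearMap (g.baseChange B₁) h1
  let cK := AlgebraTensorModule.cancelBaseChange A B₁ C C K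
  let cM := AlgebraTensorModule.cancelBaseChange A B₁ C C M
  have hc : ∀ z, cM ((g.baseChange B₁).lTensor C z) = g.baseChange C (cK z) := fun z => by
    induction z using TensorProduct.induction_on with
    | zero => simp
    | add a b ha hb => simp only [map_add, ha, hb]
    | tmul c w =>
      induction w using TensorProduct.induction_on with
      | zero => simp
      | add a b ha hb => simp only [TensorProduct.tmul_add, map_add, ha, hb]
      | tmul r k => simp [cK, cM]
  intro a b hab
  obtain ⟨a, rfl⟩ := cK.surjective a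
  obtain ⟨b, rfl⟩ := cK.surjective b
  rw [← hc, ← hc] at hab
  rw [h2 (cM.injective hab)]

/-- Over a local ring, bijectivity of a map with flat target is detected after a base change. -/
theorem bijective_of_baseChange {R A C R' : Type u} [CommRing R] [CommRing A] [IsLocalRing A] [Algebra R A]
    [CommRing C] [IsLocalRing C] [CommRing R'] [Algebra R R'] [Algebra A C] [IsLocalHom (algebraMap A C)]
    [Algebra (R' ⊗[R] A) C] [IsScalarTower A (R' ⊗[R] A) C] [Module.Flat (R' ⊗[R] A) C]
    {M N : Type u} [AddCommGroup M] [Module A M] [Module R M] [IsScalarTower R A M] [Module.Finite A M]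
    [AddCommGroup N] [Module A N] [Module R N] [IsScalarTower R A N] [Module.Flat R N]
    [Module.FinitePresentation A N] (v : M →ₗ[A] N) (h : Function.Bijective (v.baseChange C)) :
    Function.Bijective v := by
  have hsurj : Function.Surjective v := by
    rw [← LinearMap.range_eq_top, ← Submodule.Quotient.subsingleton_iff]
    refine subsingleton_of_tensor (A := A) (C := C) (N ⧸ LinearMap.range v) (subsingleton_of_forall_eq 0 fun z => ?_)
    obtain ⟨w, rfl⟩ := LinearMap.lTensor_surjective C (Submodule.mkQ_surjective (LinearMap.range v)) z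
    obtain ⟨m, rfl⟩ := h.2 w
    show ((LinearMap.range v).mkQ.lTensor C) (v.lTensor C m) = 0
    rw [← LinearMap.comp_apply, ← LinearMap.lTensor_comp, show (LinearMap.range v).mkQ ∘ₗ v = 0 from LinearMap.range_mkQ_comp v,
      LinearMap.lTensor_zero, LinearMap.zero_apply]
  refine ⟨?_, hsurj⟩
  let K := LinearMap.ker v
  haveI : Module.Finite A K := Module.Finite.iff_fg.mpr (Module.FinitePresentation.fg_ker v hsurj)
  have hex : Function.Exact K.subtype v := LinearMap.exact_subtype_ker_map v
  have hinj := lTensor_injective (R := R) (R' := R') (C := C) K.subtype K.injective_subtype v hsurj hex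
  haveI : Subsingleton K := subsingleton_of_tensor (C := C) K (subsingleton_of_forall_eq 0 fun z => by
    refine hinj ?_
    rw [map_zero]
    refine h.1 ?_
    rw [map_zero]
    show v.lTensor C (K.subtype.lTensor C z) = 0
    rw [← LinearMap.comp_apply, ← LinearMap.lTensor_comp, hex.linearMap_comp_eq_zero, LinearMap.lTensor_zero,
      LinearMap.zero_apply])
  rw [← LinearMap.ker_eq_bot]
  exact Submodule.eq_bot_of_subsingleton

/-- A map with an inverse up to an element outside the prime. -/
def HasInv {B F G : Type u} [CommRing B] [AddCommGroup F] [Module B F] [AddCommGroup G] [Module B G]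
    (v : F →ₗ[B] G) (q : Ideal B) : Prop :=
  ∃ (s : B) (w : G →ₗ[B] F), s ∉ q ∧ (∀ y, v (w y) = s • y) ∧ ∀ x, w (v x) = s • x

/-- A map of finitely presented modules bijective at a prime has an inverse near the prime. -/
theorem hasInv_of_bijective {B F G : Type u} [CommRing B] [AddCommGroup F] [Module B F] [AddCommGroup G]
    [Module B G] [Module.Finite B F] [Module.FinitePresentation B G] (q : Ideal B) [q.IsPrime]
    {Fq Gq : Type u} [AddCommGroup Fq] [Module B Fq] [AddCommGroup Gq] [Module B Gq]
    (fF : F →ₗ[B] Fq) [IsLocalizedModule q.primeCompl fF] (fG : G →ₗ[B] Gq) [IsLocalizedModule q.primeCompl fG]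
    (v : F →ₗ[B] G) (vq : Fq →ₗ[B] Gq) (hv : ∀ x, vq (fF x) = fG (v x)) (h : Function.Bijective vq) :
    HasInv v q := by
  let e := LinearEquiv.ofBijective vq h
  obtain ⟨w, s, hw⟩ := Module.FinitePresentation.exists_lift_of_isLocalizedModule q.primeCompl fF
    (e.symm.toLinearMap ∘ₗ fG)
  have hw' : ∀ y, fF (w y) = (s : B) • e.symm (fG y) := fun y => LinearMap.congr_fun hw y
  obtain ⟨t₁, ht₁⟩ := Module.Finite.exists_smul_of_comp_eq_of_isLocalizedModule q.primeCompl fG (v ∘ₗ w)
    ((s : B) • LinearMap.id) (LinearMap.ext fun y => by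
      show fG (v (w y)) = fG ((s : B) • y)
      rw [← hv, hw', map_smul, map_smul]
      exact congrArg _ (e.apply_symm_apply _))
  obtain ⟨t₂, ht₂⟩ := Module.Finite.exists_smul_of_comp_eq_of_isLocalizedModule q.primeCompl fF (w ∘ₗ v)
    ((s : B) • LinearMap.id) (LinearMap.ext fun x => by
      show fF (w (v x)) = fF ((s : B) • x)
      rw [hw', map_smul, ← hv]
      exact congrArg _ (e.symm_apply_apply _))
  refine ⟨(t₁ : B) * t₂ * s, ((t₁ : B) * t₂) • w, fun hm => ?_, fun y => ?_, fun x => ?_⟩
  · rcases Ideal.IsPrime.mem_or_mem inferInstance hm with hm | hm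
    · rcases Ideal.IsPrime.mem_or_mem inferInstance hm with hm | hm
      exacts [t₁.2 hm, t₂.2 hm]
    · exact s.2 hm
  · have h1 : (t₁ : B) • v (w y) = (t₁ : B) • (s : B) • y := LinearMap.congr_fun ht₁ y
    rw [LinearMap.smul_apply, map_smul, mul_comm (t₁ : B), mul_smul, h1, smul_smul, smul_smul]
  · have h2 : (t₂ : B) • w (v x) = (t₂ : B) • (s : B) • x := LinearMap.congr_fun ht₂ x
    rw [LinearMap.smul_apply, mul_smul, h2, smul_smul, smul_smul]

/-- A map invertible near all the primes over a point is bijective on the fibre there. -/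
theorem bijective_fibre {R B F G : Type u} [CommRing R] [CommRing B] [Algebra R B]
    [AddCommGroup F] [Module B F] [Module R F] [IsScalarTower R B F]
    [AddCommGroup G] [Module B G] [Module R G] [IsScalarTower R B G]
    (v : F →ₗ[B] G) (p : Ideal R) [p.IsPrime]
    (h : ∀ (q : Ideal B) [q.IsPrime], q.comap (algebraMap R B) = p → HasInv v q) :
    Function.Bijective ((v.restrictScalars R).baseChange p.ResidueField) := by
  let κ := p.ResidueField
  let S : Set B := {s | ∃ w : G →ₗ[B] F, (∀ y, v (w y) = s • y) ∧ ∀ x, w (v x) = s • x}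
  let J := (Ideal.span S).map (algebraMap B (κ ⊗[R] B))
  have hJ : J = ⊤ := by
    by_contra hne
    obtain ⟨M, hM, hJM⟩ := Ideal.exists_le_maximal J hne
    haveI : (M.comap (algebraMap B (κ ⊗[R] B))).IsPrime := Ideal.comap_isPrime _ _
    have hp : (M.comap (algebraMap B (κ ⊗[R] B))).comap (algebraMap R B) = p := by
      haveI : (M.comap (algebraMap κ (κ ⊗[R] B))).IsPrime := Ideal.comap_isPrime _ _
      rw [Ideal.comap_comap, ← IsScalarTower.algebraMap_eq, IsScalarTower.algebraMap_eq R κ (κ ⊗[R] B),
        ← Ideal.comap_comap,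
        (Ideal.eq_bot_or_top (M.comap (algebraMap κ (κ ⊗[R] B)))).resolve_right (Ideal.IsPrime.ne_top inferInstance),
        ← RingHom.ker_eq_comap_bot]
      exact Ideal.ker_algebraMap_residueField p
    obtain ⟨s, w, hs, h1, h2⟩ := h (M.comap (algebraMap B (κ ⊗[R] B))) hp
    exact hs (hJM (Ideal.mem_map_of_mem _ (Ideal.subset_span ⟨w, h1, h2⟩)))
  let B₁ := κ ⊗[R] B
  haveI : Algebra.IsPushout R κ B B₁ := inferInstance
  let eF := Algebra.IsPushout.cancelBaseChange R κ B B₁ F
  let eG := Algebra.IsPushout.cancelBaseChange R κ B B₁ G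
  have hc : ∀ z, (v.baseChange B₁) (eF.symm z) = eG.symm ((v.restrictScalars R).baseChange κ z) := fun z => by
    induction z using TensorProduct.induction_on with
    | zero => simp
    | tmul r k => simp [eF, eG, Algebra.IsPushout.cancelBaseChange_symm_tmul]
    | add a b ha hb => simp only [map_add, ha, hb]
  suffices Function.Bijective (v.baseChange B₁) by
    refine ⟨fun a b hab => eF.symm.injective (this.1 (by rw [hc, hc, hab])), fun y => ?_⟩
    obtain ⟨x, hx⟩ := this.2 (eG.symm y)
    obtain ⟨x, rfl⟩ := eF.symm.surjective x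
    rw [hc] at hx
    exact ⟨x, eG.symm.injective hx⟩
  constructor
  · rw [injective_iff_map_eq_zero]
    intro z hz
    let Ann : Ideal B₁ := LinearMap.ker (LinearMap.toSpanSingleton B₁ _ z)
    have hle : J ≤ Ann := Ideal.map_le_iff_le_comap.mpr (Ideal.span_le.mpr fun s ⟨w, _, h2⟩ => by
      show algebraMap B B₁ s • z = 0
      have h3 : (w.baseChange B₁) ((v.baseChange B₁) z) = algebraMap B B₁ s • z := by
        rw [← LinearMap.comp_apply, ← LinearMap.baseChange_comp, show w ∘ₗ v = s • LinearMap.id from LinearMap.ext h2,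
          LinearMap.baseChange_smul, LinearMap.baseChange_id, LinearMap.smul_apply, LinearMap.id_apply, algebraMap_smul]
      rw [← h3, hz, map_zero])
    have h1 : (1 : B₁) ∈ Ann := hle (hJ ▸ Submodule.mem_top)
    simpa [Ann] using h1
  · rw [← LinearMap.range_eq_top, ← top_le_iff]
    intro y _
    let T : Ideal B₁ := (LinearMap.range (v.baseChange B₁)).comap (LinearMap.toSpanSingleton B₁ _ y)
    have hle : J ≤ T := Ideal.map_le_iff_le_comap.mpr (Ideal.span_le.mpr fun s ⟨w, h1, _⟩ => by
      show algebraMap B B₁ s • y ∈ LinearMap.range (v.baseChange B₁)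
      refine ⟨(w.baseChange B₁) y, ?_⟩
      rw [← LinearMap.comp_apply, ← LinearMap.baseChange_comp, show v ∘ₗ w = s • LinearMap.id from LinearMap.ext h1,
        LinearMap.baseChange_smul, LinearMap.baseChange_id, LinearMap.smul_apply, LinearMap.id_apply, algebraMap_smul])
    have h1 : (1 : B₁) ∈ T := hle (hJ ▸ Submodule.mem_top)
    simpa [T] using h1

/-- Bijectivity of base changes in terms of arbitrary models. -/
theorem bijective_baseChange_iff {A C F G F' G' : Type u} [CommRing A] [CommRing C] [Algebra A C]
    [AddCommGroup F] [Module A F] [AddCommGroup G] [Module A G]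
    [AddCommGroup F'] [Module C F'] [Module A F'] [IsScalarTower A C F']
    [AddCommGroup G'] [Module C G'] [Module A G'] [IsScalarTower A C G']
    {fF : F →ₗ[A] F'} (hF : IsBaseChange C fF) {fG : G →ₗ[A] G'} (hG : IsBaseChange C fG)
    (v : F →ₗ[A] G) (v' : F' →ₗ[C] G') (hv : ∀ x, v' (fF x) = fG (v x)) :
    Function.Bijective v' ↔ Function.Bijective (v.baseChange C) := by
  have hc : ∀ z, v' (hF.equiv z) = hG.equiv (v.baseChange C z) := fun z => by
    induction z using TensorProduct.induction_on with
    | zero => simp
    | tmul c x => rw [LinearMap.baseChange_tmul, IsBaseChange.equiv_tmul, IsBaseChange.equiv_tmul, map_smul, hv]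
    | add a b ha hb => simp only [map_add, ha, hb]
  constructor
  · intro h
    refine ⟨fun a b hab => hF.equiv.injective (h.1 (by rw [hc, hc, hab])), fun y => ?_⟩
    obtain ⟨x, hx⟩ := h.2 (hG.equiv y)
    obtain ⟨x, rfl⟩ := hF.equiv.surjective x
    rw [hc] at hx
    exact ⟨x, hG.equiv.injective hx⟩
  · intro h
    refine ⟨fun a b hab => ?_, fun y => ?_⟩
    · obtain ⟨a, rfl⟩ := hF.equiv.surjective a
      obtain ⟨b, rfl⟩ := hF.equiv.surjective b
      rw [hc, hc] at hab
      rw [h.1 (hG.equiv.injective hab)]
    · obtain ⟨y, rfl⟩ := hG.equiv.surjective y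
      obtain ⟨x, rfl⟩ := h.2 y
      exact ⟨hF.equiv x, hc x⟩

/-- Bijective base changes stay bijective after further base change. -/
theorem bijective_baseChange_trans {B B' C F G : Type u} [CommRing B] [CommRing B'] [CommRing C] [Algebra B B']
    [Algebra B C] [Algebra B' C] [IsScalarTower B B' C] [AddCommGroup F] [Module B F] [AddCommGroup G] [Module B G]
    (v : F →ₗ[B] G) (h : Function.Bijective (v.baseChange B')) : Function.Bijective (v.baseChange C) := by
  let cF := AlgebraTensorModule.cancelBaseChange B B' C C F
  let cG := AlgebraTensorModule.cancelBaseChange B B' C C G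
  let e := (LinearEquiv.ofBijective _ h).baseChange B' C _ _
  have hc : ∀ z, cG (e z) = v.baseChange C (cF z) := fun z => by
    induction z using TensorProduct.induction_on with
    | zero => simp
    | add a b ha hb => simp only [map_add, ha, hb]
    | tmul c w =>
      induction w using TensorProduct.induction_on with
      | zero => simp
      | add a b ha hb => simp only [TensorProduct.tmul_add, map_add, ha, hb]
      | tmul r k => simp [cF, cG, e]
  refine ⟨fun a b hab => ?_, fun y => ?_⟩
  · obtain ⟨a, rfl⟩ := cF.surjective a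
    obtain ⟨b, rfl⟩ := cF.surjective b
    rw [← hc, ← hc] at hab
    rw [e.injective (cG.injective hab)]
  · obtain ⟨y, rfl⟩ := cG.surjective y
    obtain ⟨x, rfl⟩ := e.surjective y
    exact ⟨cF x, (hc x).symm⟩

/-- Bijectivity over the fibre ring from bijectivity over the field. -/
theorem bijective_baseChange_tensor {R K B F G : Type u} [CommRing R] [CommRing K] [Algebra R K] [CommRing B]
    [Algebra R B] [AddCommGroup F] [Module B F] [Module R F] [IsScalarTower R B F]
    [AddCommGroup G] [Module B G] [Module R G] [IsScalarTower R B G]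
    (v : F →ₗ[B] G) (h : Function.Bijective ((v.restrictScalars R).baseChange K)) :
    Function.Bijective (v.baseChange (K ⊗[R] B)) := by
  haveI : Algebra.IsPushout R K B (K ⊗[R] B) := inferInstance
  let eF := Algebra.IsPushout.cancelBaseChange R K B (K ⊗[R] B) F
  let eG := Algebra.IsPushout.cancelBaseChange R K B (K ⊗[R] B) G
  have hc : ∀ z, (v.baseChange (K ⊗[R] B)) (eF.symm z) = eG.symm ((v.restrictScalars R).baseChange K z) := fun z => by
    induction z using TensorProduct.induction_on with
    | zero => simp
    | tmul r k => simp [eF, eG, Algebra.IsPushout.cancelBaseChange_symm_tmul]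
    | add a b ha hb => simp only [map_add, ha, hb]
  refine ⟨fun a b hab => ?_, fun y => ?_⟩
  · obtain ⟨a, rfl⟩ := eF.symm.surjective a
    obtain ⟨b, rfl⟩ := eF.symm.surjective b
    rw [hc, hc] at hab
    rw [h.1 (eG.symm.injective hab)]
  · obtain ⟨y, rfl⟩ := eG.symm.surjective y
    obtain ⟨x, rfl⟩ := h.2 y
    exact ⟨eF.symm x, hc x⟩

/-- A prime of the fibre ring above the closed point. -/
theorem exists_prime_fibre {R B : Type u} [CommRing R] [CommRing B] [Algebra R B] (p : Ideal R) [p.IsPrime]
    (q : Ideal B) [q.IsPrime] (hq : q.comap (algebraMap R B) = p) :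
    ∃ m : Ideal (p.ResidueField ⊗[R] Localization.AtPrime q), m.IsPrime ∧
      m.comap (algebraMap (Localization.AtPrime q) (p.ResidueField ⊗[R] Localization.AtPrime q)) =
        maximalIdeal (Localization.AtPrime q) := by
  let κ := p.ResidueField
  let A := Localization.AtPrime q
  let B₁ := κ ⊗[R] A
  let φ₁ : κ →ₐ[R] ResidueField A := Ideal.ResidueField.liftₐ p (Algebra.ofId R (ResidueField A))
    (fun r hr => by
      show algebraMap R (ResidueField A) r = 0
      rw [IsScalarTower.algebraMap_apply R A (ResidueField A)]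
      refine (residue_eq_zero_iff _).mpr ?_
      rw [IsScalarTower.algebraMap_apply R B A]
      exact (IsLocalization.AtPrime.to_map_mem_maximal_iff A q _).mpr (hq.ge hr))
    (fun r hr => by
      show IsUnit (algebraMap R (ResidueField A) r)
      rw [IsScalarTower.algebraMap_apply R A (ResidueField A)]
      refine IsUnit.map _ ?_
      rw [IsScalarTower.algebraMap_apply R B A]
      exact IsLocalization.map_units A (⟨algebraMap R B r, fun hc => hr (hq.le hc)⟩ : q.primeCompl))
  let θ : B₁ →ₐ[R] ResidueField A := Algebra.TensorProduct.lift φ₁ (IsScalarTower.toAlgHom R A (ResidueField A))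
    fun _ _ => Commute.all _ _
  refine ⟨RingHom.ker θ.toRingHom, RingHom.ker_isPrime _, ?_⟩
  ext a
  show θ ((1 : κ) ⊗ₜ[R] a) = 0 ↔ a ∈ maximalIdeal A
  rw [Algebra.TensorProduct.lift_tmul, map_one, one_mul]
  exact residue_eq_zero_iff a

/-- Bijectivity after localisation from bijectivity after a base change flat over a fibre ring. -/
theorem bijective_localized_of_baseChange {R B A C R' : Type u} [CommRing R] [CommRing B] [CommRing A] [IsLocalRing A]
    [Algebra R A] [Algebra B A] [CommRing C] [IsLocalRing C] [CommRing R'] [Algebra R R'] [Algebra A C]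
    [IsLocalHom (algebraMap A C)] [Algebra (R' ⊗[R] A) C] [IsScalarTower A (R' ⊗[R] A) C]
    [Module.Flat (R' ⊗[R] A) C] [Algebra B C] [IsScalarTower B A C]
    {F G Fq Gq : Type u} [AddCommGroup F] [Module B F] [AddCommGroup G] [Module B G]
    [AddCommGroup Fq] [Module A Fq] [Module B Fq] [IsScalarTower B A Fq] [Module R Fq] [IsScalarTower R A Fq]
    [Module.Finite A Fq]
    [AddCommGroup Gq] [Module A Gq] [Module B Gq] [IsScalarTower B A Gq] [Module R Gq] [IsScalarTower R A Gq]
    [Module.Flat R Gq] [Module.FinitePresentation A Gq]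
    {fF : F →ₗ[B] Fq} (hF : IsBaseChange A fF) {fG : G →ₗ[B] Gq} (hG : IsBaseChange A fG)
    (v : F →ₗ[B] G) (vq : Fq →ₗ[A] Gq) (hvq : ∀ x, vq (fF x) = fG (v x))
    (h : Function.Bijective (v.baseChange C)) : Function.Bijective vq := by
  refine bijective_of_baseChange (R := R) (R' := R') (C := C) vq ?_
  refine (bijective_baseChange_iff (hF.comp (TensorProduct.isBaseChange A Fq C))
    (hG.comp (TensorProduct.isBaseChange A Gq C)) v (vq.baseChange C) fun x => ?_).mpr h
  show (1 : C) ⊗ₜ[A] vq (fF x) = (1 : C) ⊗ₜ[A] fG (v x)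
  rw [hvq]

/-- Bijectivity over the fibre ring localised above a local algebra. -/
theorem bijective_localized_of_fibre {R B A K : Type u} [CommRing R] [CommRing B] [CommRing A] [IsLocalRing A]
    [Algebra R B] [Algebra R A] [Algebra B A] [IsScalarTower R B A] [CommRing K] [Algebra R K]
    (m : Ideal (K ⊗[R] A)) [m.IsPrime] (hm : m.comap (algebraMap A (K ⊗[R] A)) = maximalIdeal A)
    {F G Fq Gq : Type u} [AddCommGroup F] [Module B F] [AddCommGroup G] [Module B G]
    [AddCommGroup Fq] [Module A Fq] [Module B Fq] [IsScalarTower B A Fq] [Module R Fq] [IsScalarTower R A Fq]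
    [Module.Finite A Fq]
    [AddCommGroup Gq] [Module A Gq] [Module B Gq] [IsScalarTower B A Gq] [Module R Gq] [IsScalarTower R A Gq]
    [Module.Flat R Gq] [Module.FinitePresentation A Gq]
    {fF : F →ₗ[B] Fq} (hF : IsBaseChange A fF) {fG : G →ₗ[B] Gq} (hG : IsBaseChange A fG)
    (v : F →ₗ[B] G) (vq : Fq →ₗ[A] Gq) (hvq : ∀ x, vq (fF x) = fG (v x))
    (h1 : Function.Bijective (v.baseChange (K ⊗[R] B))) : Function.Bijective vq := by
  let C := Localization.AtPrime m
  haveI : IsLocalHom (algebraMap A C) := by
    refine ((IsLocalRing.local_hom_TFAE (algebraMap A C)).out 4 0).mp ?_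
    have hcm : (maximalIdeal C).comap (algebraMap (K ⊗[R] A) C) = m := IsLocalization.AtPrime.under_maximalIdeal C m
    rw [IsScalarTower.algebraMap_eq A (K ⊗[R] A) C, ← Ideal.comap_comap, hcm, hm]
  haveI : Module.Flat (K ⊗[R] A) C := IsLocalization.flat C m.primeCompl
  letI : Algebra B C := ((algebraMap A C).comp (algebraMap B A)).toAlgebra
  haveI : IsScalarTower B A C := IsScalarTower.of_algebraMap_eq fun _ => rfl
  let g : K ⊗[R] B →ₐ[K] C := (IsScalarTower.toAlgHom K (K ⊗[R] A) C).comp
    (Algebra.TensorProduct.map (AlgHom.id K K) (IsScalarTower.toAlgHom R B A))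
  letI : Algebra (K ⊗[R] B) C := g.toRingHom.toAlgebra
  haveI : IsScalarTower B (K ⊗[R] B) C := IsScalarTower.of_algebraMap_eq fun b => by
    show algebraMap B C b = g ((1 : K) ⊗ₜ[R] b)
    show _ = algebraMap (K ⊗[R] A) C ((1 : K) ⊗ₜ[R] algebraMap B A b)
    rw [IsScalarTower.algebraMap_apply B A C, IsScalarTower.algebraMap_apply A (K ⊗[R] A) C]
    rfl
  have h2 : Function.Bijective (v.baseChange C) := bijective_baseChange_trans (B' := K ⊗[R] B) v h1
  exact bijective_localized_of_baseChange (R := R) (R' := K) (C := C) hF hG v vq hvq h2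

/-- A map bijective on the fibre is invertible near each point of the fibre. -/
theorem hasInv_of_fibre {R B F G : Type u} [CommRing R] [CommRing B] [Algebra R B]
    [AddCommGroup F] [Module B F] [Module R F] [IsScalarTower R B F] [Module.Finite B F]
    [AddCommGroup G] [Module B G] [Module R G] [IsScalarTower R B G] [Module.FinitePresentation B G]
    (v : F →ₗ[B] G) (p : Ideal R) [p.IsPrime]
    (h : Function.Bijective ((v.restrictScalars R).baseChange p.ResidueField))
    (q : Ideal B) [q.IsPrime] (hq : q.comap (algebraMap R B) = p)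
    [Module.Flat R (LocalizedModule q.primeCompl G)] : HasInv v q := by
  let κ := p.ResidueField
  let A := Localization.AtPrime q
  let Fq := LocalizedModule q.primeCompl F
  let Gq := LocalizedModule q.primeCompl G
  let fF := LocalizedModule.mkLinearMap q.primeCompl F
  let fG := LocalizedModule.mkLinearMap q.primeCompl G
  let vq : Fq →ₗ[A] Gq := (IsLocalizedModule.map q.primeCompl fF fG v).extendScalarsOfIsLocalization q.primeCompl A
  have hvq : ∀ x, vq (fF x) = fG (v x) := fun x => IsLocalizedModule.map_apply q.primeCompl fF fG v x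
  have hbF : IsBaseChange A fF := IsLocalizedModule.isBaseChange q.primeCompl A fF
  have hbG : IsBaseChange A fG := IsLocalizedModule.isBaseChange q.primeCompl A fG
  haveI : Module.Finite A Fq := Module.Finite.of_isLocalizedModule q.primeCompl fF
  haveI : Module.FinitePresentation A Gq := inferInstance
  refine hasInv_of_bijective q fF fG v (vq.restrictScalars B) hvq ?_
  show Function.Bijective vq
  obtain ⟨m, hm, hmm⟩ := exists_prime_fibre (R := R) p q hq
  haveI := hm
  exact bijective_localized_of_fibre (R := R) (B := B) (A := A) (K := p.ResidueField) m hmm (F := F) (G := G)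
    (Fq := Fq) (Gq := Gq) hbF hbG v vq hvq (bijective_baseChange_tensor v h)

end Groth.Agent.IsoLocus96
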