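import Groth.Agent.IsoLocus96.Alg
import Groth.Agent.FlatOpen.Scheme
import Groth.Agent.FDesc.BaseChangeStalk
import Groth.Agent.ZClosLib.FlatBC
import Groth.Agent.Omega.ThickDiff
import Groth.Agent.Props.QFP

/-!
# The locus where a map with flat target is an isomorphism: stalks
-/

set_option autoImplicit false
set_option linter.style.haveILetI false

universe u

open CategoryTheory CategoryTheory.Limits AlgebraicGeometry TopologicalSpace Opposite
open scoped TensorProduct
open Groth.Agent.AssSch.Stalk Groth.Agent.PullStalk.Exact Groth.Agent.PullStalk.Sky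

attribute [local instance] Algebra.TensorProduct.rightAlgebra

namespace Groth.Agent.IsoLocus96

variable {X : Scheme.{u}} {F G : X.Modules}

/-- A morphism of modules on sections, as a linear map. -/
noncomputable def appLin (v : F ⟶ G) (U : X.Opens) : Γ(F, U) →ₗ[Γ(X, U)] Γ(G, U) where
  toFun := v.app U
  map_add' := map_add (v.app U).hom
  map_smul' r m := Scheme.Modules.Hom.app_smul v r m

/-- Bijectivity at a point and an inverse near it on a chart. -/
theorem bijective_stalk_iff_hasInv [F.IsQuasicoherent] [G.IsQuasicoherent] (v : F ⟶ G) {U : X.Opens}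
    (hU : IsAffineOpen U) [Module.Finite Γ(X, U) Γ(F, U)] [Module.FinitePresentation Γ(X, U) Γ(G, U)]
    (x : X) (hx : x ∈ U) :
    Function.Bijective (stalkLin v x) ↔ HasInv (appLin v U) (primeOf hU x hx) := by
  letI : Algebra Γ(X, U) (X.presheaf.stalk x) := (X.presheaf.germ U x hx).hom.toAlgebra
  letI : Module Γ(X, U) (F.presheaf.stalk x) := Module.compHom _ (X.presheaf.germ U x hx).hom
  letI : Module Γ(X, U) (G.presheaf.stalk x) := Module.compHom _ (X.presheaf.germ U x hx).hom
  haveI : IsScalarTower Γ(X, U) (X.presheaf.stalk x) (F.presheaf.stalk x) := IsScalarTower.of_algebraMap_smul fun _ _ => rfl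
  haveI : IsScalarTower Γ(X, U) (X.presheaf.stalk x) (G.presheaf.stalk x) := IsScalarTower.of_algebraMap_smul fun _ _ => rfl
  haveI := isLocalizedModule_germLinear F hU x hx
  haveI := isLocalizedModule_germLinear G hU x hx
  have hv : ∀ m, (stalkLin v x).restrictScalars Γ(X, U) (germLinear F x hx m) = germLinear G x hx (appLin v U m) :=
    fun m => stalkLin_germ v U x hx m
  constructor
  · intro h
    exact hasInv_of_bijective (primeOf hU x hx) (germLinear F x hx) (germLinear G x hx) (appLin v U)
      ((stalkLin v x).restrictScalars Γ(X, U)) hv h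
  · rintro ⟨s, w, hs, h1, h2⟩
    let S := (primeOf hU x hx).primeCompl
    let wq := IsLocalizedModule.map S (germLinear G x hx) (germLinear F x hx) w
    let vq := (stalkLin v x).restrictScalars Γ(X, U)
    have e1 : vq ∘ₗ wq = s • LinearMap.id := IsLocalizedModule.ext S (germLinear G x hx)
      (IsLocalizedModule.map_units (germLinear G x hx)) (LinearMap.ext fun m => by
        show vq (wq (germLinear G x hx m)) = s • germLinear G x hx m
        rw [IsLocalizedModule.map_apply, hv, h1, map_smul])
    have e2 : wq ∘ₗ vq = s • LinearMap.id := IsLocalizedModule.ext S (germLinear F x hx)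
      (IsLocalizedModule.map_units (germLinear F x hx)) (LinearMap.ext fun m => by
        show wq (vq (germLinear F x hx m)) = s • germLinear F x hx m
        rw [hv, IsLocalizedModule.map_apply, h2, map_smul])
    have hF := (Module.End.isUnit_iff _).mp (IsLocalizedModule.map_units (S := S) (germLinear F x hx) ⟨s, hs⟩)
    have hG := (Module.End.isUnit_iff _).mp (IsLocalizedModule.map_units (S := S) (germLinear G x hx) ⟨s, hs⟩)
    constructor
    · intro a b hab
      refine hF.1 ?_
      have ha := LinearMap.congr_fun e2 a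
      have hb := LinearMap.congr_fun e2 b
      show s • a = s • b
      exact ha.symm.trans ((congrArg wq hab).trans hb)
    · intro y
      obtain ⟨y, rfl⟩ := hG.2 y
      exact ⟨wq y, LinearMap.congr_fun e1 y⟩

/-- The locus of bijective stalks is open. -/
theorem isOpen_bijective_stalk [F.IsQuasicoherent] [G.IsQuasicoherent] (v : F ⟶ G) (hF : CohB1.IsFP F)
    (hG : CohB1.IsFP G) : IsOpen {x : X | Function.Bijective (stalkLin v x)} := by
  refine isOpen_iff_forall_mem_open.mpr fun x hx => ?_
  obtain ⟨U, hU, hxU, -⟩ := exists_isAffineOpen_mem_and_subset (x := x) (U := ⊤) trivial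
  haveI : Module.FinitePresentation Γ(X, U) Γ(F, U) := (Props.QFP.isFP_iff F).1 hF U hU
  haveI : Module.FinitePresentation Γ(X, U) Γ(G, U) := (Props.QFP.isFP_iff G).1 hG U hU
  obtain ⟨s, w, hs, h1, h2⟩ := (bijective_stalk_iff_hasInv v hU x hxU).mp hx
  refine ⟨X.basicOpen s, fun y hy => ?_, (X.basicOpen s).isOpen, (mem_basicOpen_iff hU x hxU s).mpr hs⟩
  have hyU : y ∈ U := X.basicOpen_le s hy
  exact (bijective_stalk_iff_hasInv v hU y hyU).mpr ⟨s, w, (mem_basicOpen_iff hU y hyU s).mp hy, h1, h2⟩

variable {Y X' Y' : Scheme.{u}} {p : X' ⟶ X} {q : X' ⟶ Y'} {f : X ⟶ Y} {g : Y' ⟶ Y}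

/-- Bijectivity on stalks descends from a base change when the target is flat. -/
theorem bijective_stalk_of_pullback (sq : IsPullback p q f g) (x' : X') [F.IsQuasicoherent] [G.IsQuasicoherent]
    (hF : CohB1.IsFP F) (hG : CohB1.IsFP G) (hGfl : FlatMod.IsFlatOverAt f G (p x')) (v : F ⟶ G)
    (h : Function.Bijective (stalkLin ((Scheme.Modules.pullback p).map v) x')) :
    Function.Bijective (stalkLin v (p x')) := by
  obtain ⟨U, hU, hxU, -⟩ := exists_isAffineOpen_mem_and_subset (x := p x') (U := ⊤) trivial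
  haveI : Module.FinitePresentation Γ(X, U) Γ(F, U) := (Props.QFP.isFP_iff F).1 hF U hU
  haveI : Module.FinitePresentation Γ(X, U) Γ(G, U) := (Props.QFP.isFP_iff G).1 hG U hU
  letI : Algebra Γ(X, U) (X.presheaf.stalk (p x')) := (X.presheaf.germ U (p x') hxU).hom.toAlgebra
  letI : Module Γ(X, U) (F.presheaf.stalk (p x')) := Module.compHom _ (X.presheaf.germ U (p x') hxU).hom
  letI : Module Γ(X, U) (G.presheaf.stalk (p x')) := Module.compHom _ (X.presheaf.germ U (p x') hxU).hom
  haveI : IsScalarTower Γ(X, U) (X.presheaf.stalk (p x')) (F.presheaf.stalk (p x')) := IsScalarTower.of_algebraMap_smul fun _ _ => rfl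
  haveI : IsScalarTower Γ(X, U) (X.presheaf.stalk (p x')) (G.presheaf.stalk (p x')) := IsScalarTower.of_algebraMap_smul fun _ _ => rfl
  haveI := isLocalizedModule_germLinear F hU (p x') hxU
  haveI := isLocalizedModule_germLinear G hU (p x') hxU
  haveI : IsLocalization.AtPrime (X.presheaf.stalk (p x')) (primeOf hU (p x') hxU) := hU.isLocalization_stalk ⟨p x', hxU⟩
  haveI : Module.Finite (X.presheaf.stalk (p x')) (F.presheaf.stalk (p x')) :=
    Module.Finite.of_isLocalizedModule (primeOf hU (p x') hxU).primeCompl (germLinear F (p x') hxU)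
  haveI : Module.FinitePresentation (X.presheaf.stalk (p x')) (G.presheaf.stalk (p x')) :=
    FinitePresentation.of_isBaseChange (germLinear G (p x') hxU)
      (IsLocalizedModule.isBaseChange (primeOf hU (p x') hxU).primeCompl _ _)
  have he : g (q x') = f (p x') := by rw [← Scheme.Hom.comp_apply, ← Scheme.Hom.comp_apply, sq.w]
  let φ : Y.presheaf.stalk (f (p x')) ⟶ Y'.presheaf.stalk (q x') :=
    Y.presheaf.stalkSpecializes (specializes_of_eq he) ≫ g.stalkMap (q x')
  let : Algebra (Y.presheaf.stalk (f (p x'))) (X.presheaf.stalk (p x')) := (f.stalkMap (p x')).hom.toAlgebra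
  let : Algebra (Y.presheaf.stalk (f (p x'))) (Y'.presheaf.stalk (q x')) := φ.hom.toAlgebra
  let : Algebra (X.presheaf.stalk (p x')) (X'.presheaf.stalk x') := (p.stalkMap x').hom.toAlgebra
  let : Algebra (Y'.presheaf.stalk (q x')) (X'.presheaf.stalk x') := (q.stalkMap x').hom.toAlgebra
  let : Algebra (Y.presheaf.stalk (f (p x'))) (X'.presheaf.stalk x') :=
    (f.stalkMap (p x') ≫ p.stalkMap x').hom.toAlgebra
  have : IsScalarTower (Y.presheaf.stalk (f (p x'))) (X.presheaf.stalk (p x')) (X'.presheaf.stalk x') :=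
    IsScalarTower.of_algebraMap_eq' rfl
  have : IsScalarTower (Y.presheaf.stalk (f (p x'))) (Y'.presheaf.stalk (q x')) (X'.presheaf.stalk x') := by
    refine IsScalarTower.of_algebraMap_eq' (congrArg CommRingCat.Hom.hom
      (?_ : f.stalkMap (p x') ≫ p.stalkMap x' = φ ≫ q.stalkMap x'))
    rw [← Scheme.Hom.stalkMap_comp, Scheme.Hom.stalkMap_congr_hom _ _ sq.w x', Category.assoc,
      Scheme.Hom.stalkMap_comp]
    rfl
  let ψ : (Y'.presheaf.stalk (q x') ⊗[Y.presheaf.stalk (f (p x'))] X.presheaf.stalk (p x'))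
      →ₐ[Y.presheaf.stalk (f (p x'))] X'.presheaf.stalk x' :=
    Algebra.TensorProduct.productMap (IsScalarTower.toAlgHom _ _ _) (IsScalarTower.toAlgHom _ _ _)
  have hflat : ψ.toRingHom.Flat := FDesc.BaseChangeStalk.flat_stalk_of_isPullback sq x' (CommRingCat.ofHom ψ.toRingHom)
    (by ext a; exact Algebra.TensorProduct.productMap_left_apply _ _ a)
    (by ext a; exact Algebra.TensorProduct.productMap_right_apply _ _ a) rfl rfl
  let := ψ.toRingHom.toAlgebra
  have : Module.Flat _ (X'.presheaf.stalk x') := hflat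
  have : IsScalarTower (X.presheaf.stalk (p x'))
      (Y'.presheaf.stalk (q x') ⊗[Y.presheaf.stalk (f (p x'))] X.presheaf.stalk (p x')) (X'.presheaf.stalk x') :=
    IsScalarTower.of_algebraMap_eq fun a => (Algebra.TensorProduct.productMap_right_apply
      (IsScalarTower.toAlgHom _ (Y'.presheaf.stalk (q x')) (X'.presheaf.stalk x'))
      (IsScalarTower.toAlgHom _ (X.presheaf.stalk (p x')) (X'.presheaf.stalk x')) a).symm
  haveI : IsLocalHom (algebraMap (X.presheaf.stalk (p x')) (X'.presheaf.stalk x')) := p.toLRSHom.prop x'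
  letI : Module (Y.presheaf.stalk (f (p x'))) (F.presheaf.stalk (p x')) := FlatMod.moduleStalkOver f F (p x')
  letI : Module (Y.presheaf.stalk (f (p x'))) (G.presheaf.stalk (p x')) := FlatMod.moduleStalkOver f G (p x')
  haveI : IsScalarTower (Y.presheaf.stalk (f (p x'))) (X.presheaf.stalk (p x')) (F.presheaf.stalk (p x')) :=
    IsScalarTower.of_algebraMap_smul fun _ _ => rfl
  haveI : IsScalarTower (Y.presheaf.stalk (f (p x'))) (X.presheaf.stalk (p x')) (G.presheaf.stalk (p x')) :=
    IsScalarTower.of_algebraMap_smul fun _ _ => rfl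
  haveI : Module.Flat (Y.presheaf.stalk (f (p x'))) (G.presheaf.stalk (p x')) := hGfl
  letI := Groth.Agent.PullStalk.Basic.moduleOver p F x'
  letI := Groth.Agent.PullStalk.Basic.moduleOver p G x'
  haveI : IsScalarTower (X.presheaf.stalk (p x')) (X'.presheaf.stalk x')
      (((Scheme.Modules.pullback p).obj F).presheaf.stalk x') := IsScalarTower.of_algebraMap_smul fun _ _ => rfl
  haveI : IsScalarTower (X.presheaf.stalk (p x')) (X'.presheaf.stalk x')
      (((Scheme.Modules.pullback p).obj G).presheaf.stalk x') := IsScalarTower.of_algebraMap_smul fun _ _ => rfl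
  refine bijective_of_baseChange (R := Y.presheaf.stalk (f (p x'))) (R' := Y'.presheaf.stalk (q x'))
    (C := X'.presheaf.stalk x') (stalkLin v (p x')) ?_
  exact (bijective_baseChange_iff (Groth.Agent.PullStalk.Basic.isBaseChange_unitStalk p F x')
    (Groth.Agent.PullStalk.Basic.isBaseChange_unitStalk p G x') (stalkLin v (p x'))
    (stalkLin ((Scheme.Modules.pullback p).map v) x')
    (fun t => Groth.Agent.Omega.ThickDiff.stalkLin_pullback_map p v x' t)).mp h

/-- On a chart, bijectivity at all points over a point of the base is bijectivity on the fibre. -/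
theorem forall_bijective_stalk_iff [F.IsQuasicoherent] [G.IsQuasicoherent] (f : X ⟶ Y) (v : F ⟶ G)
    (hF : CohB1.IsFP F) (hG : CohB1.IsFP G) (hGfl : FlatMod.IsFlatOver f G)
    {V : Y.Opens} (hV : IsAffineOpen V) {U : X.Opens} (hU : IsAffineOpen U) (e : U ≤ f ⁻¹ᵁ V) (s : Y) (hs : s ∈ V) :
    letI := (f.appLE V U e).hom.toAlgebra
    letI : Module Γ(Y, V) Γ(F, U) := Module.compHom _ (f.appLE V U e).hom
    letI : Module Γ(Y, V) Γ(G, U) := Module.compHom _ (f.appLE V U e).hom
    haveI : IsScalarTower Γ(Y, V) Γ(X, U) Γ(F, U) := IsScalarTower.of_algebraMap_smul fun _ _ => rfl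
    haveI : IsScalarTower Γ(Y, V) Γ(X, U) Γ(G, U) := IsScalarTower.of_algebraMap_smul fun _ _ => rfl
    (∀ x ∈ U, f x = s → Function.Bijective (stalkLin v x)) ↔
      Function.Bijective (((appLin v U).restrictScalars Γ(Y, V)).baseChange (hV.primeIdealOf ⟨s, hs⟩).asIdeal.ResidueField) := by
  letI := (f.appLE V U e).hom.toAlgebra
  letI : Module Γ(Y, V) Γ(F, U) := Module.compHom _ (f.appLE V U e).hom
  letI : Module Γ(Y, V) Γ(G, U) := Module.compHom _ (f.appLE V U e).hom
  haveI : IsScalarTower Γ(Y, V) Γ(X, U) Γ(F, U) := IsScalarTower.of_algebraMap_smul fun _ _ => rfl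
  haveI : IsScalarTower Γ(Y, V) Γ(X, U) Γ(G, U) := IsScalarTower.of_algebraMap_smul fun _ _ => rfl
  haveI : Module.FinitePresentation Γ(X, U) Γ(F, U) := (Props.QFP.isFP_iff F).1 hF U hU
  haveI : Module.FinitePresentation Γ(X, U) Γ(G, U) := (Props.QFP.isFP_iff G).1 hG U hU
  have hcomap : ∀ (x : X) (hx : x ∈ U),
      (primeOf hU x hx).comap (algebraMap Γ(Y, V) Γ(X, U)) = (hV.primeIdealOf ⟨f x, e hx⟩).asIdeal := by
    intro x hx
    refine congrArg PrimeSpectrum.asIdeal ((hV.fromSpec.isOpenEmbedding.injective (a₁ :=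
      (Spec.map (f.appLE V U e)) (hU.primeIdealOf ⟨x, hx⟩)) ?_))
    rw [hV.fromSpec_primeIdealOf]
    show (Spec.map (f.appLE V U e) ≫ hV.fromSpec) (hU.primeIdealOf ⟨x, hx⟩) = f x
    rw [IsAffineOpen.SpecMap_appLE_fromSpec f hV hU e]
    show f (hU.fromSpec _) = f x
    rw [hU.fromSpec_primeIdealOf]
  constructor
  · intro h
    refine bijective_fibre (appLin v U) _ fun qq hqq hq => ?_
    let P : PrimeSpectrum Γ(X, U) := ⟨qq, hqq⟩
    have hy : hU.fromSpec P ∈ U := hU.range_fromSpec.subset ⟨P, rfl⟩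
    have hP : hU.primeIdealOf ⟨_, hy⟩ = P := hU.fromSpec.isOpenEmbedding.injective (hU.fromSpec_primeIdealOf _)
    have hfy : f (hU.fromSpec P) = s := by
      have h1 : hV.primeIdealOf ⟨f (hU.fromSpec P), e hy⟩ = hV.primeIdealOf ⟨s, hs⟩ := by
        refine PrimeSpectrum.ext ?_
        rw [← hcomap _ hy, primeOf, hP]
        exact hq
      have h2 := congrArg hV.fromSpec h1
      rwa [hV.fromSpec_primeIdealOf, hV.fromSpec_primeIdealOf] at h2
    have h3 := (bijective_stalk_iff_hasInv v hU _ hy).mp (h _ hy hfy)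
    rw [show primeOf hU _ hy = qq from congrArg PrimeSpectrum.asIdeal hP] at h3
    exact h3
  · intro h x hx hfx
    subst hfx
    haveI : Module.Flat Γ(Y, V) (LocalizedModule (primeOf hU x hx).primeCompl Γ(G, U)) :=
      (Groth.Agent.FlatOpen.Scheme.isFlatOverAt_iff f hV hU e x hx G).mp (hGfl x)
    exact (bijective_stalk_iff_hasInv v hU x hx).mpr
      (hasInv_of_fibre (appLin v U) _ h (primeOf hU x hx) (hcomap x hx))

end Groth.Agent.IsoLocus96

namespace Groth.Agent.IsoLocus96

/-- An isomorphism is bijective on stalks. -/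
theorem bijective_stalkLin_of_isIso {Z : Scheme.{u}} {M N : Z.Modules} (φ : M ⟶ N) [IsIso φ] (x : Z) :
    Function.Bijective (stalkLin φ x) :=
  ⟨Groth.Agent.Omega.Stalks.stalkLin_injective_of_mono φ x, stalk_surjective φ x⟩

end Groth.Agent.IsoLocus96
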